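import Mathlib

/-!
# A subspace of small codimension generating a proper subspace in degree two
-/

set_option autoImplicit false

universe u

open Module

namespace Groth.Agent.GenusOneMul32

/-- If the products of a subspace of codimension at most one containing a unit do not span, the subspace
contains an ideal of colength at most two. -/
theorem exists_ideal_of_products_ne_top {k A : Type*} [Field k] [CommRing A] [Algebra k A] [Module.Finite k A]
    (V : Submodule k A) (hcodim : finrank k A ≤ finrank k V + 1) {u : A} (hu : IsUnit u) (huV : u ∈ V)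
    (hne : Submodule.span k (Set.range fun p : V × V => (p.1 : A) * p.2) ≠ ⊤) :
    ∃ n : Ideal A, (n : Set A) ⊆ V ∧ finrank k (A ⧸ n.restrictScalars k) ≤ 2 ∧ V ≠ ⊤ := by
  classical
  let W := Submodule.span k (Set.range fun p : V × V => (p.1 : A) * p.2)
  let m : A →ₗ[k] A := LinearMap.mulLeft k u
  let e : A ≃ₗ[k] A := LinearEquiv.ofBijective m (IsUnit.isUnit_iff_mulLeft_bijective.1 hu)
  let B : Submodule k A := V.comap m
  let W' : Submodule k A := W.comap (m.comp m)
  have hB : finrank k B = finrank k V := (LinearEquiv.ofSubmodule' e V).finrank_eq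
  have hBW : B ≤ W' := fun b hb => Submodule.subset_span ⟨(⟨u, huV⟩, ⟨u * b, hb⟩), rfl⟩
  have hW' : W' ≠ ⊤ := fun h => hne (eq_top_iff.2 fun a _ => by
    have := h.ge (Submodule.mem_top (x := e.symm (e.symm a)))
    change e (e (e.symm (e.symm a))) ∈ W at this
    rwa [LinearEquiv.apply_symm_apply, LinearEquiv.apply_symm_apply] at this)
  have hlt : finrank k W' < finrank k A := Submodule.finrank_lt hW'
  have hEq : B = W' := Submodule.eq_of_le_of_finrank_le hBW (by omega)
  have hcl : ∀ b ∈ B, ∀ b' ∈ B, b * b' ∈ B := fun b hb b' hb' => by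
    rw [hEq]
    exact Submodule.subset_span ⟨(⟨u * b, hb⟩, ⟨u * b', hb'⟩), show u * b * (u * b') = u * (u * (b * b')) by ring⟩
  have hBtop : B ≠ ⊤ := hEq ▸ hW'
  obtain ⟨a, -, ha⟩ := SetLike.exists_of_lt (lt_top_iff_ne_top.2 hBtop)
  have hsup : B ⊔ Submodule.span k {a} = ⊤ := by
    have h2 : B < B ⊔ Submodule.span k {a} := lt_of_le_of_ne le_sup_left fun h =>
      ha (h.ge (Submodule.mem_sup_right (Submodule.mem_span_singleton_self a)))
    have := Submodule.finrank_lt_finrank_of_lt h2
    exact Submodule.eq_top_of_finrank_eq (le_antisymm (Submodule.finrank_le _) (by omega))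
  have hdec : ∀ x : A, ∃ β ∈ B, ∃ c : k, x = β + c • a := fun x => by
    obtain ⟨β, hβ, z, hz, rfl⟩ := Submodule.mem_sup.1 (hsup.ge (Submodule.mem_top (x := x)))
    obtain ⟨c, rfl⟩ := Submodule.mem_span_singleton.1 hz
    exact ⟨β, hβ, c, rfl⟩
  have hba : ∀ b ∈ B, b * a ∈ B → ∀ x, b * x ∈ B := fun b hb hb' x => by
    obtain ⟨β, hβ, c, rfl⟩ := hdec x
    rw [mul_add, mul_smul_comm]
    exact add_mem (hcl b hb β hβ) (B.smul_mem c hb')
  let n : Ideal A :=
    { carrier := {b | b ∈ B ∧ b * a ∈ B}
      add_mem' := fun {b b'} h h' => ⟨add_mem h.1 h'.1, by rw [add_mul]; exact add_mem h.2 h'.2⟩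
      zero_mem' := ⟨zero_mem _, by rw [zero_mul]; exact zero_mem _⟩
      smul_mem' := fun x b h => by
        refine ⟨show x * b ∈ B from mul_comm b x ▸ hba b h.1 h.2 x, ?_⟩
        show x * b * a ∈ B
        rw [show x * b * a = b * (x * a) by ring]
        exact hba b h.1 h.2 _ }
  refine ⟨n, fun x hx => ?_, ?_, fun h => hBtop (by rw [show B = V.comap m from rfl, h, Submodule.comap_top])⟩
  · have h1 : e.symm x ∈ n := by
      have he : e.symm x = ↑hu.unit⁻¹ * x := e.injective (by
        rw [LinearEquiv.apply_symm_apply]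
        show x = u * (↑hu.unit⁻¹ * x)
        rw [← mul_assoc, IsUnit.mul_val_inv, one_mul])
      rw [he]
      exact n.mul_mem_left _ hx
    have h2 : e (e.symm x) ∈ V := h1.1
    rwa [LinearEquiv.apply_symm_apply] at h2
  · let f : A →ₗ[k] (A ⧸ B) × (A ⧸ B) := B.mkQ.prod (B.mkQ.comp (LinearMap.mulRight k a))
    have hker : n.restrictScalars k = LinearMap.ker f := by
      ext x
      simp only [Submodule.restrictScalars_mem, LinearMap.mem_ker, f, LinearMap.prod_apply, Function.prod_apply,
        Prod.mk_eq_zero, LinearMap.comp_apply, Submodule.mkQ_apply, Submodule.Quotient.mk_eq_zero,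
        LinearMap.mulRight_apply]
      rfl
    rw [hker, f.quotKerEquivRange.finrank_eq]
    refine (Submodule.finrank_le _).trans ?_
    rw [Module.finrank_prod]
    have := B.finrank_quotient_add_finrank
    omega

end Groth.Agent.GenusOneMul32
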