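import Groth.Agent.Lib.CurveCM.Mul
import Groth.Agent.Lib.CurveCoh17.Section
import Groth.Agent.Lib.CurveCoh17.TensorExact
import Groth.Agent.Lib.CurveCoh17.RegPoint
import Groth.Agent.Lib.CurveVA17.RegSec
import Groth.Agent.Lib.CurveH1Min27.Apps

/-!
# Sections of an invertible module modulo finitely many sections
-/

set_option autoImplicit false
set_option linter.style.haveILetI false
set_option backward.isDefEq.respectTransparency false

universe u

open CategoryTheory CategoryTheory.Limits AlgebraicGeometry TopologicalSpace Opposite TensorProduct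

attribute [local instance] Abelian.hasFiniteBiproducts

namespace Groth.Agent.GenusOneMul32

open Groth.Agent.M1 Groth.Agent.M2 Groth.Agent.CurveCoh17

variable {X : Scheme.{u}} {L : X.Modules} (hL : PicF.IsInvertible L)

/-- A chosen coordinate on a stalk. -/
noncomputable def coord (x : X) : L.presheaf.stalk x ≃ₗ[X.presheaf.stalk x] X.presheaf.stalk x :=
  (nonempty_stalk_equiv ((isInvertible_iff_isFinLocFreeOfRank_one L).1 hL) x).some.trans
    (LinearEquiv.funUnique (Fin 1) (X.presheaf.stalk x) (X.presheaf.stalk x))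

/-- The coordinate of the germ of a global section. -/
noncomputable def co (v : Γ(L, (⊤ : X.Opens))) (x : X) : X.presheaf.stalk x :=
  coord hL x (L.presheaf.germ ⊤ x trivial v)

/-- The ideal of the values of a family of sections. -/
noncomputable def coI {m : ℕ} (w : Fin m → Γ(L, (⊤ : X.Opens))) (x : X) : Ideal (X.presheaf.stalk x) :=
  Ideal.span (Set.range fun i => co hL (w i) x)

/-- The sum of the morphisms of a family of sections. -/
noncomputable def secsHom {m : ℕ} (w : Fin m → Γ(L, (⊤ : X.Opens))) :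
    (⨁ fun _ : Fin m => Coh.structureModule X) ⟶ L :=
  biproduct.desc fun i => secHom (w i)

theorem coord_stalkLin_secHom (v : Γ(L, (⊤ : X.Opens))) (x : X) (a₀ : (Coh.structureModule X).presheaf.stalk x) :
    ∃ a : X.presheaf.stalk x, coord hL x (stalkLin (secHom v) x a₀) = a * co hL v x := by
  obtain ⟨a, -, hsa⟩ := stalkLin_secHom v x a₀
  exact ⟨a, by rw [hsa, map_smul, smul_eq_mul]; rfl⟩

theorem germ_mem_range_secHom (v : Γ(L, (⊤ : X.Opens))) (x : X) :
    ∃ a₀, stalkLin (secHom v) x a₀ = L.presheaf.germ ⊤ x trivial v :=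
  ⟨(Coh.structureModule X).presheaf.germ ⊤ x trivial (one ⊤), by
    rw [stalkLin_apply, germ_naturality, secHom_app_one]⟩

theorem stalkLin_sum {ι' : Type*} (t : Finset ι') {M N : X.Modules} (φ : ι' → (M ⟶ N)) (x : X)
    (a : M.presheaf.stalk x) : stalkLin (∑ i ∈ t, φ i) x a = ∑ i ∈ t, stalkLin (φ i) x a := by
  induction t using Finset.cons_induction with
  | empty =>
    simp only [Finset.sum_empty]
    show (stalkAb x).map (0 : M ⟶ N) a = 0
    rw [Functor.map_zero]
    rfl
  | cons b t hb ih =>
    rw [Finset.sum_cons, Finset.sum_cons, ← ih]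
    show (stalkAb x).map _ a = _
    rw [Functor.map_add]
    rfl

variable {m : ℕ} (w : Fin m → Γ(L, (⊤ : X.Opens)))

theorem coord_secsHom_mem (x : X) (a₀ : (⨁ fun _ : Fin m => Coh.structureModule X).presheaf.stalk x) :
    coord hL x (stalkLin (secsHom w) x a₀) ∈ coI hL w x := by
  classical
  rw [secsHom, biproduct.desc_eq, stalkLin_sum, map_sum]
  refine Ideal.sum_mem _ fun i _ => ?_
  rw [stalkLin_comp]
  obtain ⟨a, ha⟩ := coord_stalkLin_secHom hL (w i) x (stalkLin (biproduct.π _ i) x a₀)
  rw [ha]
  exact Ideal.mul_mem_left _ _ (Ideal.subset_span ⟨i, rfl⟩)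

theorem exists_secsHom_of_mem (x : X) {b : L.presheaf.stalk x} (hb : coord hL x b ∈ coI hL w x) :
    ∃ a₀, stalkLin (secsHom w) x a₀ = b := by
  classical
  obtain ⟨c, hc⟩ := Submodule.mem_span_range_iff_exists_fun _ |>.1 hb
  choose a₀ ha₀ using fun i => germ_mem_range_secHom (L := L) (w i) x
  refine ⟨∑ i, c i • stalkLin (biproduct.ι (fun _ : Fin m => Coh.structureModule X) i) x (a₀ i),
    (coord hL x).injective ?_⟩
  rw [map_sum, map_sum, ← hc]
  refine Finset.sum_congr rfl fun i _ => ?_
  rw [map_smul, map_smul, ← stalkLin_comp, secsHom, biproduct.ι_desc, ha₀]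
  rfl

theorem cokernel_stalk_eq_zero_iff (x : X) (b : L.presheaf.stalk x) :
    stalkLin (cokernel.π (secsHom w)) x b = 0 ↔ coord hL x b ∈ coI hL w x := by
  refine ⟨fun h => ?_, fun h => ?_⟩
  · obtain ⟨a, ha⟩ := (exact_iff_stalk_eq_zero
      (ShortComplex.mk (secsHom w) (cokernel.π _) (cokernel.condition _))).1
      (ShortComplex.exact_of_g_is_cokernel _ (cokernelIsCokernel _)) x b h
    rw [← ha]
    exact coord_secsHom_mem hL w x a
  · obtain ⟨a, rfl⟩ := exists_secsHom_of_mem hL w x h
    rw [← stalkLin_comp, cokernel.condition]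
    show (stalkAb x).map (0 : _ ⟶ cokernel (secsHom w)) a = 0
    rw [Functor.map_zero]
    rfl

/-- The stalk of the cokernel. -/
noncomputable def cokStalk (x : X) :
    (cokernel (secsHom w)).presheaf.stalk x ≃ₗ[X.presheaf.stalk x] X.presheaf.stalk x ⧸ coI hL w x :=
  let g : X.presheaf.stalk x →ₗ[X.presheaf.stalk x] (cokernel (secsHom w)).presheaf.stalk x :=
    (stalkLin (cokernel.π (secsHom w)) x) ∘ₗ (coord hL x).symm.toLinearMap
  (Submodule.quotEquivOfEq (coI hL w x) (LinearMap.ker g) (by
      ext r
      rw [LinearMap.mem_ker]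
      show r ∈ coI hL w x ↔ stalkLin (cokernel.π (secsHom w)) x ((coord hL x).symm r) = 0
      rw [cokernel_stalk_eq_zero_iff hL, LinearEquiv.apply_symm_apply]) ≪≫ₗ
    g.quotKerEquivOfSurjective (((epi_iff_stalk _).1 inferInstance x : Function.Surjective
      (stalkLin (cokernel.π (secsHom w)) x)).comp (coord hL x).symm.surjective)).symm

theorem cokStalk_π (x : X) (b : L.presheaf.stalk x) :
    cokStalk hL w x (stalkLin (cokernel.π (secsHom w)) x b) = Submodule.Quotient.mk (coord hL x b) := by
  rw [cokStalk, LinearEquiv.symm_apply_eq]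
  show _ = stalkLin (cokernel.π (secsHom w)) x ((coord hL x).symm (coord hL x b))
  rw [LinearEquiv.symm_apply_apply]

variable (k : Type u) [Field k] [X.Over (Spec (CommRingCat.of k))]

attribute [local instance] stalkMod

/-- The algebra structure over the base field on the local rings. -/
noncomputable abbrev stalkAlg (x : X) : Algebra k (X.presheaf.stalk x) := (stalkRingMap k x).toAlgebra

attribute [local instance] stalkAlg

/-- The coordinate of the germ, linear over the base field. -/
noncomputable def coL (x : X) : Coh.HH X L 0 →ₗ[k] X.presheaf.stalk x where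
  toFun z := co hL (hh0 L z) x
  map_add' z w := by rw [co, map_add, map_add, map_add]; rfl
  map_smul' c z := by
    show coord hL x (h0germ k L x (c • z)) = c • coord hL x (h0germ k L x z)
    rw [map_smul]
    show coord hL x (stalkRingMap k x c • h0germ k L x z) = _
    rw [map_smul, Algebra.smul_def]
    rfl

/-- Global sections of the cokernel. -/
noncomputable def cokH0 {S : Finset X} (hS : SuppIn (cokernel (secsHom w)) S) :
    Coh.HH X (cokernel (secsHom w)) 0 ≃ₗ[k] ((x : S) → X.presheaf.stalk (x : X) ⧸ coI hL w x) :=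
  (hS.h0Equiv k).trans (LinearEquiv.piCongrRight fun x : S =>
    ({ (cokStalk hL w x).toAddEquiv with
        map_smul' := fun c a => (cokStalk hL w x).map_smul (stalkRingMap k (x : X) c) a } :
      (cokernel (secsHom w)).presheaf.stalk (x : X) ≃ₗ[k] X.presheaf.stalk (x : X) ⧸ coI hL w x))

theorem cokH0_hmap {S : Finset X} (hS : SuppIn (cokernel (secsHom w)) S) (z : Coh.HH X L 0) (x : S) :
    cokH0 hL w k hS (hmap k (cokernel.π (secsHom w)) 0 z) x = Ideal.Quotient.mk _ (coL hL k x z) := by
  show cokStalk hL w x ((cokernel (secsHom w)).presheaf.germ ⊤ (x : X) trivial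
    (hh0 _ (hmap k (cokernel.π (secsHom w)) 0 z))) = _
  rw [hh0_hmap, ← germ_naturality, ← stalkLin_apply, cokStalk_π]
  rfl

end Groth.Agent.GenusOneMul32
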