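import Groth.Agent.Lib.GenusOneMul32.Coker
import Groth.Agent.Lib.GenusOneMul32.Algebra
import Groth.Agent.Lib.CurveCM.Span

/-!
# Products of sections in degree two on a curve of genus one
-/

set_option autoImplicit false
set_option linter.style.haveILetI false
set_option backward.isDefEq.respectTransparency false

universe u

open CategoryTheory CategoryTheory.Limits AlgebraicGeometry TopologicalSpace Opposite TensorProduct

attribute [local instance] Abelian.hasFiniteBiproducts

namespace Groth.Agent.GenusOneMul32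

open Groth.Agent.M1 Groth.Agent.M2 Groth.Agent.CurveCoh17

variable {X : Scheme.{u}} {k : Type u} [Field k] [X.Over (Spec (CommRingCat.of k))]

attribute [local instance] stalkMod stalkAlg

/-- On a curve of genus one a rank one module of positive degree has no `H¹`. -/
theorem subsingleton_h1_of_deg_pos (hX : CurveLike k X) [IsProper (X ↘ Spec (CommRingCat.of k))] [Nonempty X]
    (hg : Curv2.genus k X = 1) {F : X.Modules} (hF : RkOne F) (hpos : 0 < Curv2.deg k X F 1) :
    Subsingleton (Coh.HH X F 1) := by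
  by_contra hns
  have h1 : Nontrivial (Coh.HH X F 1) := not_subsingleton_iff_nontrivial.1 hns
  have hle := hX.h0_le_genus_of_h1 hF h1
  have hrr := hX.rr hF.coh
  have hr := CurveH1Min27.h0_structure_pos hX
  haveI := hX.fin F hF.coh 1
  have h1p : 0 < Module.finrank k (Coh.HH X F 1) := Module.finrank_pos
  by_cases hs : Nontrivial (Coh.HH X F 0)
  · obtain ⟨z, hz⟩ := exists_ne (0 : Coh.HH X F 0)
    obtain ⟨t, -, -, -, h1le, -, -⟩ := hX.section_numerics hF (hh0_ne_zero hz)
    omega
  · rw [not_nontrivial_iff_subsingleton] at hs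
    rw [Module.finrank_zero_of_subsingleton (M := Coh.HH X F 0)] at hrr
    omega

variable {L : X.Modules} (hL : PicF.IsInvertible L)

/-- The coordinate on the square. -/
noncomputable def coord2 (x : X) :
    (CohB1.tensorMod L L).presheaf.stalk x ≃ₗ[X.presheaf.stalk x] X.presheaf.stalk x :=
  stalkEquiv L L x ≪≫ₗ TensorProduct.congr (coord hL x) (coord hL x) ≪≫ₗ TensorProduct.lid _ _

theorem coord2_tsec {U : X.Opens} (x : X) (hx : x ∈ U) (a b : Γ(L, U)) :
    coord2 hL x ((CohB1.tensorMod L L).presheaf.germ U x hx (tsec L L a b)) =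
      coord hL x (L.presheaf.germ U x hx a) * coord hL x (L.presheaf.germ U x hx b) := by
  simp only [coord2, LinearEquiv.trans_apply, stalkEquiv_tsec, TensorProduct.congr_tmul, TensorProduct.lid_tmul,
    smul_eq_mul]

theorem exists_stalk_mulR (s : Γ(L, (⊤ : X.Opens))) (x : X) (b : L.presheaf.stalk x) :
    coord2 hL x (stalkLin (CurveCM.mulR L s) x b) = coord hL x b * co hL s x := by
  obtain ⟨U, hU, y, rfl⟩ := L.presheaf.exists_germ_eq b
  rw [stalkLin_apply, germ_naturality, CurveCM.mulR_app, coord2_tsec, germ_mres]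
  rfl

variable [IsIntegral X] [IsProper (X ↘ Spec (CommRingCat.of k))]

variable (k) in
include k in
theorem suppIn_cokernel {s : Γ(L, (⊤ : X.Opens))} {S : Finset X} (hS : SuppIn (cokernel (secHom s)) S) :
    (∀ x ∉ S, IsUnit (co hL s x)) ∧ ∀ {m : ℕ} (w : Fin (m + 1) → Γ(L, (⊤ : X.Opens))), w 0 = s →
      SuppIn (cokernel (secsHom w)) S := by
  have hu : ∀ x ∉ S, IsUnit (co hL s x) := fun x hx => by
    obtain ⟨a₀, ha₀⟩ := (exact_iff_stalk_eq_zero (secSC s)).1
      (ShortComplex.exact_of_g_is_cokernel _ (cokernelIsCokernel _)) x ((coord hL x).symm 1) (hS.zero x hx _)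
    obtain ⟨a, ha⟩ := coord_stalkLin_secHom hL s x a₀
    have h1 : a * co hL s x = 1 := by
      rw [← ha]
      exact (congrArg (coord hL x) ha₀).trans ((coord hL x).apply_symm_apply 1)
    exact IsUnit.of_mul_eq_one_right a h1
  refine ⟨hu, fun {m} w hw => ⟨hS.closed, fun x hx a => (cokStalk hL w x).injective ?_⟩⟩
  haveI : Subsingleton (X.presheaf.stalk x ⧸ coI hL w x) := Ideal.Quotient.subsingleton_iff.2
    (Ideal.eq_top_of_isUnit_mem _ (Ideal.subset_span ⟨0, congrArg (fun v => co hL v x) hw⟩) (hu x hx))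
  exact Subsingleton.elim _ _

omit [IsIntegral X] in
theorem exists_unit_section (hgg : Curv2.IsGloballyGenerated L) [Infinite k] (S : Finset X) :
    ∃ z : Coh.HH X L 0, ∀ x ∈ S, IsUnit (coL hL k x z) := by
  classical
  let p : S → Submodule k (Coh.HH X L 0) := fun x =>
    ((IsLocalRing.maximalIdeal (X.presheaf.stalk (x : X))).restrictScalars k).comap (coL hL k x)
  obtain ⟨z, hz⟩ := Submodule.exists_forall_notMem_of_forall_ne_top p fun x htop => by
    obtain ⟨t, ht⟩ := RA.exists_gen_of_isGloballyGenerated hL hgg (x : X)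
    obtain ⟨r, hr⟩ := ((Amp.mem_genLocus_iff hL t).1 ht).2 ((coord hL (x : X)).symm 1)
    have hr' : r * co hL (Amp.gval t) x = 1 := by
      have := congrArg (coord hL (x : X)) hr
      rw [LinearEquiv.apply_symm_apply] at this
      simp only [map_smul, smul_eq_mul] at this
      exact this
    have hm := htop.ge (Submodule.mem_top (x := (hh0 L).symm (Amp.gval t)))
    refine ((IsLocalRing.mem_maximalIdeal _).1 hm) ?_
    show IsUnit (co hL (hh0 L ((hh0 L).symm (Amp.gval t))) x)
    rw [AddEquiv.apply_symm_apply]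
    exact IsUnit.of_mul_eq_one_right r hr'
  exact ⟨z, fun x hx => by
    by_contra h
    exact hz ⟨x, hx⟩ ((IsLocalRing.mem_maximalIdeal _).2 h)⟩

variable (hd : topologicalKrullDim X ≤ 1) (hg : Curv2.genus k X = 1)

include hL hd hg in
/-- The global sections map onto the cokernel of finitely many sections, up to the genus; onto it when the
cokernel is small. -/
theorem cokernel_numerics {s : Γ(L, (⊤ : X.Opens))} (hs : s ≠ 0) {S : Finset X}
    (hS : SuppIn (cokernel (secHom s)) S) {m : ℕ} (w : Fin (m + 1) → Γ(L, (⊤ : X.Opens))) (hw : w 0 = s) :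
    Module.Finite k (Coh.HH X (cokernel (secsHom w)) 0) ∧
    Module.finrank k (Coh.HH X (cokernel (secsHom w)) 0) ≤
      Module.finrank k (LinearMap.range (hmap k (cokernel.π (secsHom w)) 0)) + 1 ∧
    ((Module.finrank k (Coh.HH X (cokernel (secsHom w)) 0) : ℤ) < Curv2.deg k X L 1 →
      Function.Surjective (hmap k (cokernel.π (secsHom w)) 0)) := by
  have hX := CurveAmple18.curveLike k X hd
  haveI := hX.noetherian
  have h1L := (isInvertible_iff_isFinLocFreeOfRank_one L).1 hL
  have hLc := isCoh_of_ofRank h1L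
  have hC : Coh.IsCoh (cokernel (secsHom w)) := isCoh_cokernel
    (CurveCM.isQCoh_biproduct (M := Coh.structureModule X) (Amp.isInvertible_tensorPow hL 0)) hLc _
  have hsupp := (suppIn_cokernel k hL hS).2 w hw
  let π := cokernel.π (secsHom w)
  have hT : (ShortComplex.mk (kernel.ι π) π (kernel.condition π)).ShortExact :=
    { exact := ShortComplex.exact_of_f_is_kernel _ (kernelIsKernel π) }
  have hFc : Coh.IsCoh (kernel π) := CurveCoh17.isCoh_kernel hLc hC.1 π
  have hF : RkOne (kernel π) := rkOne_of_mono hd hFc hL (kernel.ι π)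
  have hfinC := hX.fin _ hC 0
  haveI := hfinC
  haveI := hX.fin _ hFc 1
  have hδ : Module.finrank k (Coh.HH X (cokernel (secsHom w)) 0) ≤
      Module.finrank k (LinearMap.range (hmap k π 0)) + Module.finrank k (Coh.HH X (kernel π) 1) := by
    have h := (hdelta k hT 0).finrank_range_add_finrank_ker
    rw [(exact_hmap_hdelta k hT 0).linearMap_ker_eq] at h
    change Module.finrank k (LinearMap.range (hdelta k hT 0)) + Module.finrank k (LinearMap.range (hmap k π 0)) =
      Module.finrank k (Coh.HH X (cokernel (secsHom w)) 0) at h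
    have h2 : Module.finrank k (LinearMap.range (hdelta k hT 0)) ≤ Module.finrank k (Coh.HH X (kernel π) 1) :=
      Submodule.finrank_le _
    omega
  refine ⟨hfinC, ?_, fun hlt => ?_⟩
  · obtain ⟨z, hz⟩ := (exact_hmap_hmap k hT 0 ((hh0 L).symm s)).1 (by
      apply (hh0 _).injective
      rw [hh0_hmap, AddEquiv.apply_symm_apply, map_zero]
      refine hsupp.section_ext _ _ fun x _ _ => ?_
      rw [map_zero, ← germ_naturality]
      show stalkLin π x (L.presheaf.germ ⊤ x trivial s) = 0
      rw [cokernel_stalk_eq_zero_iff hL]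
      exact Ideal.subset_span ⟨0, congrArg (fun v => co hL v x) hw⟩)
    have hne : z ≠ 0 := fun h => hs (by
      rw [h, map_zero] at hz
      simpa using congrArg (hh0 L) hz.symm)
    obtain ⟨t, -, -, -, h1le, -, -⟩ := hX.section_numerics hF (hh0_ne_zero hne)
    show _ ≤ Module.finrank k (LinearMap.range (hmap k π 0)) + 1
    omega
  · have hpos : 0 < Curv2.deg k X (kernel π) 1 := by
      have := euler_add hT (hX.adm hFc) (hX.adm hC)
      rw [hsupp.euler_eq hfinC] at this
      have hLd : Curv2.deg k X L 1 = Curv2.euler k X L - 1 * Curv2.euler k X (Coh.structureModule X) := by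
        rw [Curv2.deg]; push_cast; ring
      rw [Curv2.deg]
      push_cast
      change Curv2.euler k X L = _ at this
      linarith
    haveI := subsingleton_h1_of_deg_pos hX hg hF hpos
    exact fun y => (exact_hmap_hdelta k hT 0 y).1 (Subsingleton.elim _ _)

set_option maxHeartbeats 1600000 in
include hL hd hg in
/-- The sections of `L ⊗ L` are sums of products when `deg L ≥ 3`. -/
theorem closure_tsec_eq_top [Infinite k] (hgg : Curv2.IsGloballyGenerated L) (hdeg : 3 ≤ Curv2.deg k X L 1) :
    AddSubgroup.closure (Set.range fun p : Γ(L, (⊤ : X.Opens)) × Γ(L, (⊤ : X.Opens)) => tsec L L p.1 p.2) = ⊤ := by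
  classical
  have hX := CurveAmple18.curveLike k X hd
  haveI := hX.noetherian
  have h1L := (isInvertible_iff_isFinLocFreeOfRank_one L).1 hL
  obtain ⟨s, hs⟩ : ∃ s : Γ(L, (⊤ : X.Opens)), s ≠ 0 := by
    obtain ⟨t, ht⟩ := RA.exists_gen_of_isGloballyGenerated hL hgg (genericPoint X)
    refine ⟨Amp.gval t, fun h => ?_⟩
    have h2 := ((Amp.mem_genLocus_iff hL t).1 ht).2 ((coord hL (genericPoint X)).symm 1)
    obtain ⟨r, hr⟩ := h2
    have := congrArg (coord hL (genericPoint X)) hr
    rw [LinearEquiv.apply_symm_apply, h] at this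
    simp [Amp.gm] at this
  obtain ⟨hmono, S, hS⟩ := (rkOne_of_invertible hd hL).sec s hs
  have hu := (suppIn_cokernel k hL hS).1
  let w₀ : Fin 1 → Γ(L, (⊤ : X.Opens)) := fun _ => s
  have hS₀ := (suppIn_cokernel k hL hS).2 w₀ rfl
  obtain ⟨hfin₀, hcodim, -⟩ := cokernel_numerics hL hd hg hs hS w₀ rfl
  haveI := hfin₀
  let A := (x : S) → X.presheaf.stalk (x : X) ⧸ coI hL w₀ x
  let Φ : Coh.HH X (cokernel (secsHom w₀)) 0 ≃ₗ[k] A := cokH0 hL w₀ k hS₀
  haveI : Module.Finite k A := Module.Finite.equiv Φ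
  let ρ : Coh.HH X L 0 →ₗ[k] A := Φ.toLinearMap ∘ₗ hmap k (cokernel.π (secsHom w₀)) 0
  have hρ : ∀ z (x : S), ρ z x = Ideal.Quotient.mk _ (coL hL k x z) := cokH0_hmap hL w₀ k hS₀
  let V : Submodule k A := LinearMap.range ρ
  have hV : Module.finrank k A ≤ Module.finrank k V + 1 := by
    have h1 : Module.finrank k V = Module.finrank k (LinearMap.range (hmap k (cokernel.π (secsHom w₀)) 0)) := by
      show Module.finrank k (LinearMap.range (Φ.toLinearMap ∘ₗ _)) = _
      rw [LinearMap.range_comp]
      exact (Φ.submoduleMap _).finrank_eq.symm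
    rw [h1, ← Φ.finrank_eq]
    exact hcodim
  let W : Submodule k A := Submodule.span k (Set.range fun p : V × V => (p.1 : A) * p.2)
  have hW : W = ⊤ := by
    by_contra hne
    obtain ⟨z₀, hz₀⟩ := exists_unit_section (k := k) hL hgg S
    have hunit : IsUnit (ρ z₀) := Pi.isUnit_iff.2 fun x => by
      rw [hρ]
      exact (hz₀ x x.2).map _
    obtain ⟨n, hnV, hn2, hVne⟩ := exists_ideal_of_products_ne_top V hV hunit ⟨z₀, rfl⟩ hne
    obtain ⟨r, g, hg'⟩ := Submodule.fg_iff_exists_fin_generating_family.1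
      (IsNoetherian.noetherian (n.restrictScalars k))
    have hgn : ∀ i, g i ∈ n := fun i => (hg'.le (Submodule.subset_span ⟨i, rfl⟩) : g i ∈ n.restrictScalars k)
    choose z hz using fun i => (hnV (hgn i) : g i ∈ V)
    let w : Fin (r + 1) → Γ(L, (⊤ : X.Opens)) := Fin.cons s fun i => hh0 L (z i)
    obtain ⟨hfinw, -, hsurj⟩ := cokernel_numerics hL hd hg hs hS w rfl
    have hSw := (suppIn_cokernel k hL hS).2 w rfl
    have hIle : ∀ x, coI hL w₀ x ≤ coI hL w x := fun x => Ideal.span_le.2 (by
      rintro _ ⟨i, rfl⟩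
      exact Ideal.subset_span ⟨0, rfl⟩)
    let φ : A →ₗ[k] ((x : S) → X.presheaf.stalk (x : X) ⧸ coI hL w x) :=
      LinearMap.pi fun x => (Ideal.Quotient.factorₐ k (hIle x)).toLinearMap ∘ₗ LinearMap.proj x
    have hφ : ∀ (a : A) (x : S) (c : X.presheaf.stalk (x : X)), a x = Ideal.Quotient.mk _ c →
        φ a x = Ideal.Quotient.mk _ c := fun a x c h => by
      show Ideal.Quotient.factor (hIle x) (a x) = _
      rw [h, Ideal.Quotient.factor_mk]
    have hφsurj : Function.Surjective φ := fun b => by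
      choose c hc using fun x : S => Ideal.Quotient.mk_surjective (b x)
      exact ⟨fun x => Ideal.Quotient.mk _ (c x), funext fun x => (hφ _ x (c x) rfl).trans (hc x)⟩
    have hgi : ∀ i (x : S), g i x = Ideal.Quotient.mk _ (co hL (hh0 L (z i)) x) := fun i x => by
      rw [← hz i, hρ]; rfl
    have hnker : n.restrictScalars k ≤ LinearMap.ker φ := by
      rw [← hg', Submodule.span_le]
      rintro _ ⟨i, rfl⟩
      refine LinearMap.mem_ker.2 (funext fun x => (hφ _ x _ (hgi i x)).trans ?_)
      exact Ideal.Quotient.eq_zero_iff_mem.2 (Ideal.subset_span ⟨i.succ, by simp [w]⟩)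
    have hkern : ∀ a, φ a = 0 → a ∈ n := fun a ha => by
      have hc : ∀ x : S, ∃ c : Fin (r + 1) → X.presheaf.stalk (x : X),
          a x = Ideal.Quotient.mk _ (∑ i, c i * co hL (w i) x) := fun x => by
        obtain ⟨b, hb⟩ := Ideal.Quotient.mk_surjective (a x)
        have hmem : b ∈ coI hL w x :=
          Ideal.Quotient.eq_zero_iff_mem.1 ((hφ a x b hb.symm).symm.trans (congrFun ha x))
        obtain ⟨c, hc⟩ := Submodule.mem_span_range_iff_exists_fun _ |>.1 hmem
        exact ⟨c, by rw [← hb, ← hc]; rfl⟩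
      choose c hc using hc
      have hsum : a = ∑ i : Fin r, (fun x : S => Ideal.Quotient.mk (coI hL w₀ x) (c x i.succ)) * g i := by
        funext x
        rw [hc x, Fin.sum_univ_succ, map_add, map_mul]
        have h0 : Ideal.Quotient.mk (coI hL w₀ (x : X)) (co hL (w 0) x) = 0 :=
          Ideal.Quotient.eq_zero_iff_mem.2 (Ideal.subset_span ⟨0, rfl⟩)
        rw [h0, mul_zero, zero_add, map_sum, Finset.sum_apply]
        refine Finset.sum_congr rfl fun i _ => ?_
        rw [map_mul, Pi.mul_apply, hgi]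
        rfl
      rw [hsum]
      exact n.sum_mem fun i _ => n.mul_mem_left _ (hgn i)
    have hdimC : Module.finrank k (Coh.HH X (cokernel (secsHom w)) 0) ≤ 2 := by
      rw [(cokH0 hL w k hSw).finrank_eq]
      refine le_trans ?_ hn2
      exact LinearMap.finrank_le_finrank_of_surjective (f := (n.restrictScalars k).liftQ φ hnker) fun b => by
        obtain ⟨a, rfl⟩ := hφsurj b
        exact ⟨Submodule.Quotient.mk a, rfl⟩
    refine hVne (eq_top_iff.2 fun a _ => ?_)
    obtain ⟨z', hz'⟩ := hsurj (by omega) ((cokH0 hL w k hSw).symm (φ a))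
    have hdiff : a - ρ z' ∈ n := hkern _ (by
      rw [map_sub, sub_eq_zero]
      funext x
      rw [hφ (ρ z') x _ (hρ z' x), ← cokH0_hmap hL w k hSw, hz', LinearEquiv.apply_symm_apply])
    have := V.add_mem (hnV hdiff) (LinearMap.mem_range_self ρ z')
    rwa [sub_add_cancel] at this
  let G := AddSubgroup.closure (Set.range fun p : Γ(L, (⊤ : X.Opens)) × Γ(L, (⊤ : X.Opens)) => tsec L L p.1 p.2)
  let ρ₂ : Γ(CohB1.tensorMod L L, (⊤ : X.Opens)) →+ A :=
    AddMonoidHom.mk' (fun t => (fun x : S => Ideal.Quotient.mk (coI hL w₀ (x : X))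
        (coord2 hL (x : X) ((CohB1.tensorMod L L).presheaf.germ ⊤ (x : X) trivial t)) : A))
      (fun t t' => by
        funext x
        show Ideal.Quotient.mk (coI hL w₀ (x : X)) _ =
          Ideal.Quotient.mk (coI hL w₀ (x : X)) _ + Ideal.Quotient.mk (coI hL w₀ (x : X)) _
        rw [map_add, map_add, map_add])
  have hlift : ∀ a : A, ∃ t ∈ G, ρ₂ t = a := by
    intro a
    suffices H : ∀ a ∈ W, ∀ c : k, ∃ t ∈ G, ρ₂ t = c • a by
      obtain ⟨t, ht, e⟩ := H a (hW.ge Submodule.mem_top) 1
      exact ⟨t, ht, e.trans (one_smul _ _)⟩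
    intro a ha
    induction ha using Submodule.span_induction with
    | mem y hy =>
      obtain ⟨⟨⟨_, v, rfl⟩, ⟨_, v', rfl⟩⟩, rfl⟩ := hy
      intro c
      refine ⟨tsec L L (hh0 L (c • v)) (hh0 L v'), AddSubgroup.subset_closure ⟨(_, _), rfl⟩, ?_⟩
      rw [← smul_mul_assoc, ← map_smul]
      funext x
      show Ideal.Quotient.mk _ (coord2 hL (x : X) _) = ρ (c • v) x * ρ v' x
      rw [coord2_tsec, map_mul, hρ, hρ]
      rfl
    | zero => exact fun c => ⟨0, zero_mem _, by rw [map_zero, smul_zero]⟩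
    | add y y' _ _ h h' =>
      intro c
      obtain ⟨t, ht, e⟩ := h c
      obtain ⟨t', ht', e'⟩ := h' c
      exact ⟨t + t', add_mem ht ht', by rw [map_add, e, e', smul_add]⟩
    | smul d y _ h =>
      intro c
      obtain ⟨t, ht, e⟩ := h (c * d)
      exact ⟨t, ht, by rw [e, mul_smul]⟩
  refine eq_top_iff.2 fun t _ => ?_
  obtain ⟨t', ht', e⟩ := hlift (ρ₂ t)
  suffices hk : ∀ t, ρ₂ t = 0 → t ∈ G by
    have := add_mem (hk (t - t') (by rw [map_sub, e, sub_self])) ht'
    rwa [sub_add_cancel] at this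
  intro t ht
  let ψ := CurveCM.mulR L s
  haveI : Mono ψ := (mono_iff_stalk _).2 fun x a b hab => by
    have h : coord2 hL x (stalkLin (CurveCM.mulR L s) x a) = coord2 hL x (stalkLin (CurveCM.mulR L s) x b) :=
      congrArg (coord2 hL x) hab
    rw [exists_stalk_mulR, exists_stalk_mulR] at h
    refine (coord hL x).injective (mul_right_cancel₀ (fun h0 => hs ?_) h)
    exact eq_zero_of_germ_eq_zero h1L s ((coord hL x).injective (h0.trans (map_zero _).symm))
  have hTψ : (ShortComplex.mk ψ (cokernel.π ψ) (cokernel.condition ψ)).ShortExact :=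
    { exact := ShortComplex.exact_of_g_is_cokernel _ (cokernelIsCokernel _) }
  obtain ⟨y, hy⟩ := (exact_hmap_hmap k hTψ 0 ((hh0 _).symm t)).1 (by
    apply (hh0 _).injective
    rw [hh0_hmap, AddEquiv.apply_symm_apply, map_zero]
    refine M1.section_ext _ _ fun x hx => ?_
    rw [map_zero, ← germ_naturality]
    obtain ⟨r, hr⟩ : ∃ r, r * co hL s x = coord2 hL x ((CohB1.tensorMod L L).presheaf.germ ⊤ x trivial t) := by
      by_cases hxS : x ∈ S
      · have h := Ideal.Quotient.eq_zero_iff_mem.1 (congrFun ht ⟨x, hxS⟩)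
        obtain ⟨c, hc⟩ := Submodule.mem_span_range_iff_exists_fun _ |>.1 h
        exact ⟨c 0, by simpa [w₀] using hc⟩
      · obtain ⟨v, hv⟩ := (hu x hxS).exists_left_inv
        exact ⟨coord2 hL x ((CohB1.tensorMod L L).presheaf.germ ⊤ x trivial t) * v, by rw [mul_assoc, hv, mul_one]⟩
    have hb : stalkLin ψ x ((coord hL x).symm r) = (CohB1.tensorMod L L).presheaf.germ ⊤ x trivial t := by
      refine (coord2 hL x).injective ?_
      rw [exists_stalk_mulR, LinearEquiv.apply_symm_apply, hr]
    show stalkLin (cokernel.π ψ) x _ = 0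
    rw [← hb, ← stalkLin_comp, cokernel.condition]
    show (stalkAb x).map (0 : L ⟶ cokernel ψ) _ = 0
    rw [Functor.map_zero]
    rfl)
  have := congrArg (hh0 _) hy
  rw [hh0_hmap, AddEquiv.apply_symm_apply] at this
  rw [← this, show (ShortComplex.mk ψ (cokernel.π ψ) (cokernel.condition ψ)).f = ψ from rfl, CurveCM.mulR_app,
    M1.mres_id]
  exact AddSubgroup.subset_closure ⟨(_, _), rfl⟩

end Groth.Agent.GenusOneMul32
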